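/-
Permutations of the 114 points and lines that respect incidence: agreement on a frame forces equality,
and the possible images of two orbits under a conjugating permutation are found by a finite search.
Main results: `eq_of_agree`, `mem_sols`.
-/
import Cfsg.Agent.Lib.CosetEnum.Net

set_option autoImplicit false

namespace Cfsg.Agent.OutON

open Cfsg.Agent.CosetEnum (lane)

/-- Incidence coded by rows of 128 bits. -/
noncomputable def incB (T i j : ℕ) : Bool := Nat.testBit (lane 128 T i) j

/-- A permutation respecting the incidence table. -/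
def Respects (T : ℕ) (σ : Equiv.Perm (Fin 114)) : Prop :=
  ∀ i j : Fin 114, incB T (σ i) (σ j) = incB T i j

/-- The permutations respecting the incidence table form a subgroup. -/
def respecting (T : ℕ) : Subgroup (Equiv.Perm (Fin 114)) where
  carrier := {σ | Respects T σ}
  one_mem' := fun _ _ => rfl
  mul_mem' := fun {σ τ} hσ hτ i j => (hσ (τ i) (τ j)).trans (hτ i j)
  inv_mem' := fun {σ} hσ i j => by
    have h := hσ (σ⁻¹ i) (σ⁻¹ j)
    simp only [Equiv.Perm.coe_inv, Equiv.apply_symm_apply] at h
    exact h.symm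

/-- Each step adds the only common neighbour of two points already present. -/
noncomputable def stepsOK (T : ℕ) : List (ℕ × ℕ × ℕ) → List ℕ → Bool := fun st =>
  List.rec (motive := fun _ => List ℕ → Bool) (fun S => (List.range 114).all fun v => S.contains v)
    (fun t _ ih S => S.contains t.2.1 && (S.contains t.2.2 && (Nat.blt t.1 114 && (Nat.blt t.2.1 114 && (Nat.blt t.2.2 114 &&
      (incB T t.1 t.2.1 && (incB T t.1 t.2.2 &&
      (((List.range 114).all fun v => Nat.beq v t.1 || !(incB T v t.2.1 && incB T v t.2.2)) &&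
        ih (t.1 :: S))))))))) st

/-- Agreement on a starting set spreads along the steps. -/
theorem eq_of_agree {T : ℕ} {σ τ : Equiv.Perm (Fin 114)} (hσ : Respects T σ) (hτ : Respects T τ) :
    ∀ (st : List (ℕ × ℕ × ℕ)) (S : List ℕ), stepsOK T st S = true →
      (∀ v ∈ S, ∀ hv : v < 114, σ ⟨v, hv⟩ = τ ⟨v, hv⟩) → σ = τ
  | [], S, h, hS => by
    refine Equiv.ext fun i => ?_
    have := List.all_eq_true.mp h i.1 (List.mem_range.mpr i.2)
    exact hS i.1 (by simpa using this) i.2
  | (v, u1, u2) :: st, S, h, hS => by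
    change (S.contains u1 && (S.contains u2 && (Nat.blt v 114 && (Nat.blt u1 114 && (Nat.blt u2 114 &&
      (incB T v u1 && (incB T v u2 &&
      (((List.range 114).all fun w => Nat.beq w v || !(incB T w u1 && incB T w u2)) &&
        stepsOK T st (v :: S))))))))) = true at h
    simp only [Bool.and_eq_true, List.contains_iff_mem, Nat.blt_eq, List.all_eq_true, List.mem_range] at h
    obtain ⟨h1, h2, hv, hu1, hu2, hi1, hi2, hall, hrest⟩ := h
    refine eq_of_agree hσ hτ st _ hrest fun w hw hw' => ?_
    rcases List.mem_cons.mp hw with rfl | hw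
    · have key : (τ⁻¹ * σ) ⟨w, hw'⟩ = ⟨w, hw'⟩ := by
        have hr : Respects T (τ⁻¹ * σ) := (respecting T).mul_mem ((respecting T).inv_mem hτ) hσ
        have hfix : ∀ u ∈ S, ∀ hu : u < 114, (τ⁻¹ * σ) ⟨u, hu⟩ = ⟨u, hu⟩ := fun u hu hu' => by
          rw [Equiv.Perm.mul_apply, hS u hu hu', ← Equiv.Perm.mul_apply, inv_mul_cancel, Equiv.Perm.one_apply]
        have hlt : ∀ u, incB T w u = true → u ∈ S → u < 114 →
            incB T ((τ⁻¹ * σ) ⟨w, hw'⟩ : Fin 114) u = true := fun u hu huS hu' => by
          have := hr ⟨w, hw'⟩ ⟨u, hu'⟩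
          rw [hfix u huS hu'] at this
          exact this.trans hu
        have := hall _ ((τ⁻¹ * σ) ⟨w, hw'⟩).2
        simp only [hlt u1 hi1 h1 hu1, hlt u2 hi2 h2 hu2, Bool.and_true, Bool.not_true, Bool.or_false] at this
        exact Fin.ext (Nat.eq_of_beq_eq_true this)
      rw [Equiv.Perm.mul_apply, Equiv.Perm.inv_eq_iff_eq] at key
      exact key.symm ▸ rfl
    · exact hS w hw hw'

/-- The table of a permutation, eight bits for each point. -/
def TabOf (P : ℕ) (σ : Equiv.Perm (Fin 114)) : Prop := ∀ i : Fin 114, lane 8 P i = (σ i : ℕ)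

/-- Iterated lookup. -/
noncomputable def itT (P : ℕ) : ℕ → ℕ → ℕ
  | 0, a => a
  | k + 1, a => lane 8 P (itT P k a)

/-- Two orbits can be sent where a conjugating permutation sends them. -/
noncomputable def okPt (T P Q m a va b vb : ℕ) : Bool :=
  (List.range m).all fun k => (List.range m).all fun l =>
    (incB T (itT P k a) (itT P l b) == incB T (itT Q k va) (itT Q l vb)) &&
      ((Nat.beq (itT P k a) (itT P l b)) == (Nat.beq (itT Q k va) (itT Q l vb)))

/-- The possible images of two base points. -/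
noncomputable def sols (T P Q m a b : ℕ) : List (ℕ × ℕ) :=
  ((List.range 114).filter fun v => okPt T P Q m a v a v).flatMap fun va =>
    ((((List.range 114).filter fun v => okPt T P Q m b v b v)).filter fun vb => okPt T P Q m a va b vb).map
      fun vb => (va, vb)

theorem itT_eq {P : ℕ} {σ : Equiv.Perm (Fin 114)} (hP : TabOf P σ) (i : Fin 114) :
    ∀ k, itT P k i = ((σ ^ k) i : ℕ)
  | 0 => rfl
  | k + 1 => by
    show lane 8 P (itT P k i) = _
    rw [itT_eq hP i k, hP, pow_succ', Equiv.Perm.mul_apply]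

/-- A conjugating permutation gives one of the listed pairs. -/
theorem mem_sols {T P Q m : ℕ} {σ τ η : Equiv.Perm (Fin 114)} (hP : TabOf P σ) (hQ : TabOf Q τ)
    (hη : Respects T η) (hc : η * σ = τ * η) (a b : Fin 114) :
    ((η a : ℕ), (η b : ℕ)) ∈ sols T P Q m a b := by
  have hpow : ∀ (k : ℕ) (i : Fin 114), η ((σ ^ k) i) = (τ ^ k) (η i) := by
    intro k
    induction k with
    | zero => intro i; rfl
    | succ k ih =>
      intro i
      rw [pow_succ', pow_succ', Equiv.Perm.mul_apply, Equiv.Perm.mul_apply, ← ih]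
      exact congrFun (congrArg DFunLike.coe hc) ((σ ^ k) i)
  have hok : ∀ p q : Fin 114, okPt T P Q m p (η p : ℕ) q (η q : ℕ) = true := by
    intro p q
    simp only [okPt, List.all_eq_true, Bool.and_eq_true, beq_iff_eq, List.mem_range]
    intro k _ l _
    rw [itT_eq hP p, itT_eq hP q, itT_eq hQ (η p), itT_eq hQ (η q), ← hpow, ← hpow]
    refine ⟨(hη _ _).symm, ?_⟩
    rw [Bool.eq_iff_iff, Cfsg.Agent.CosetEnum.beq_iff, Cfsg.Agent.CosetEnum.beq_iff]
    exact ⟨fun h => by rw [Fin.ext h], fun h => congrArg Fin.val (η.injective (Fin.ext h))⟩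
  refine List.mem_flatMap.mpr ⟨(η a : ℕ), List.mem_filter.mpr ⟨List.mem_range.mpr (η a).2, hok a a⟩, ?_⟩
  exact List.mem_map.mpr ⟨(η b : ℕ), List.mem_filter.mpr
    ⟨List.mem_filter.mpr ⟨List.mem_range.mpr (η b).2, hok b b⟩, hok a b⟩, rfl⟩

end Cfsg.Agent.OutON
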