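/-
The point stabiliser of the O'Nan group on 122760 points acting on the 114 points and lines.
Main results: `eq_of_base`, `stab_eq`, `exists_perm114`, `fix_mem_of_fixOnly`.
-/
import Cfsg.Agent.Lib.ONReal.Embed
import Cfsg.Agent.Lib.ONL37.Iso
import Cfsg.Agent.Lib.OutColour.Sound
import Cfsg.Agent.Lib.OutON.Rigid
import Cfsg.Agent.Lib.OutON.Data

set_option autoImplicit false
set_option Elab.async false

namespace Cfsg.Agent.OutON

open Cfsg.Agent.CosetEnum
open Cfsg.Agent.CosetEnum.Data (ev)
open Cfsg.Agent.ONReal (rho rho_injective baseFixed ev_eq_one)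
open Cfsg.Agent.ONL37 (qSetup psi equivH)

/-- The presented group. -/
abbrev G : Type := onSetup.G

/-- The element of a word. -/
noncomputable def el (w : List ℕ) : G := ev onSetup.el w

/-- The image of a point of the table. -/
noncomputable def pt (g : G) (i : ℕ) : ℕ :=
  if h : i < on122760.n then ((rho g ⟨i, h⟩ : Fin on122760.n) : ℕ) else i

theorem pt_mul (g h : G) (i : ℕ) : pt (g * h) i = pt g (pt h i) := by
  by_cases hi : i < on122760.n
  · have h2 : pt h i = ((rho h ⟨i, hi⟩ : Fin on122760.n) : ℕ) := by simp [pt, hi]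
    rw [h2]
    simp [pt, hi, map_mul]
  · simp [pt, hi]

theorem pt_one (i : ℕ) : pt 1 i = i := by
  unfold pt
  split <;> simp

theorem pt_lt {g : G} {i : ℕ} (h : i < on122760.n) : pt g i < on122760.n := by simp [pt, h]

theorem el_append (u v : List ℕ) : el (u ++ v) = el v * el u := Data.ev_append _ u v

theorem el_cons (a : ℕ) (v : List ℕ) : el (a :: v) = el v * onSetup.el a := rfl

/-- The inverse word. -/
noncomputable def winv (w : List ℕ) : List ℕ := (w.map on122760.invl).reverse

theorem el_winv : ∀ {w : List ℕ}, (∀ a ∈ w, a < on122760.k) → el (winv w) = (el w)⁻¹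
  | [], _ => by simp [winv, el, Data.ev]
  | a :: v, h => by
    rw [show winv (a :: v) = winv v ++ [on122760.invl a] by simp [winv], el_append,
      el_winv fun b hb => h b (List.mem_cons_of_mem a hb), show el (a :: v) = el v * onSetup.el a from rfl,
      show el [on122760.invl a] = 1 * onSetup.el (on122760.invl a) from rfl, one_mul, mul_inv_rev]
    congr 1
    exact eq_inv_of_mul_eq_one_left
      (Setup.el_inv onSetup_gens Cfsg.Agent.S1692.table.letters a (h a List.mem_cons_self))

theorem rho_el (w : List ℕ) (hw : ∀ a ∈ w, a < on122760.k) :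
    rho (el w) = ev (Setup.perm on122760 Cfsg.Agent.S1692.table.perm) w := by
  have key : ∀ v : List ℕ, rho (ev onSetup.el v) = ev (fun a => rho (onSetup.el a)) v := by
    intro v
    induction v with
    | nil => exact map_one rho
    | cons a v ih => show rho (ev onSetup.el v * onSetup.el a) = _; rw [map_mul, ih]; rfl
  rw [el, key]
  exact Setup.ev_congr w fun a ha => Setup.hom_el onSetup_gens Cfsg.Agent.S1692.table.letters
    Cfsg.Agent.S1692.table.perm Cfsg.Agent.S1692.table.rels (hw a ha)

theorem pt_el {w : List ℕ} (hw : ∀ a ∈ w, a < on122760.k) {i : ℕ} (hi : i < on122760.n) :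
    pt (el w) i = on122760.tw w i := by
  rw [pt, dif_pos hi, rho_el w hw, Setup.ev_perm Cfsg.Agent.S1692.table.perm w hw]

/-- A word fixing the base is trivial. -/
theorem el_eq_one {w : List ℕ} (h : baseFixed on122760 on122760_chain w = true) : el w = 1 := by
  refine rho_injective ?_
  rw [map_one, rho_el w, ev_eq_one h]
  simp only [baseFixed, Bool.and_eq_true, List.all_eq_true, Nat.blt_eq] at h
  exact h.1

/-- Two words agreeing on the base are equal. -/
noncomputable def sameW (u v : List ℕ) : Bool :=
  (v.all fun a => Nat.blt a on122760.k) && baseFixed on122760 on122760_chain (u ++ winv v)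

theorem eq_of_base {u v : List ℕ} (h : sameW u v = true) : el u = el v := by
  simp only [sameW, Bool.and_eq_true, List.all_eq_true, Nat.blt_eq] at h
  have h2 := el_eq_one h.2
  rw [el_append, el_winv h.1, inv_mul_eq_one] at h2
  exact h2.symm

/-- The subgroup on the six involutions. -/
abbrev hsub : Subgroup G := onSetup.closureOf Cfsg.Agent.S1692.hgens

theorem mem_hsub_iff (g : G) : g ∈ hsub ↔ pt g 0 = 0 := by
  have T := Cfsg.Agent.S1692.table
  obtain ⟨ext, hsrc, hext⟩ := T.src
  obtain ⟨e, he0, he⟩ := Setup.exists_equiv onSetup_gens T.letters T.check T.rels T.perm T.subs hsrc hsub rfl hext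
  have h1 := he g ⟨0, T.perm.hn⟩
  rw [he0] at h1
  have h2 : g • ((1 : G) : G ⧸ hsub) = ((1 : G) : G ⧸ hsub) ↔ g ∈ hsub := by
    rw [show g • ((1 : G) : G ⧸ hsub) = ((g * 1 : G) : G ⧸ hsub) from rfl, mul_one, QuotientGroup.eq, mul_one,
      inv_mem_iff]
  rw [← h2, h1, pt, dif_pos T.perm.hn, ← he0, e.injective.eq_iff, Fin.ext_iff]
  rfl

/-- The action of the stabiliser on points and lines. -/
noncomputable def act114 : hsub →* Equiv.Perm (Fin 114) := psi.comp equivH.symm.toMonoidHom

theorem act114_injective : Function.Injective act114 :=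
  ONL37.range_facts.2.comp equivH.symm.injective

theorem qel_eq : ∀ k < 6, ((equivH (qSetup.el k) : hsub) : G) = onSetup.el (k + 2) := by
  intro k hk
  have key : ∀ x : ONL37.Gen, ((equivH (PresentedGroup.of x) : hsub) : G) = onSetup.el (qSetup.sg x + 2) := by
    intro x
    rw [ONL37.img_letters]
    exact PresentedGroup.toGroup.of ONL37.img_rels
  interval_cases k
  exacts [key .a, key .b, key .c, key .d, key .e, key .f]

theorem psi_qel : ∀ k : Fin 6, psi (qSetup.el k) = ONL37.gperm k := by
  intro k
  have key : ∀ x : ONL37.Gen, psi (PresentedGroup.of x) = ONL37.gperm (ONL37.num x) := fun x =>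
    PresentedGroup.toGroup.of ONL37.gperm_rels
  fin_cases k
  exacts [key .a, key .b, key .c, key .d, key .e, key .f]

/-- Check: a word in the six involutions and its table on points and lines. -/
noncomputable def hWordOK (w : List ℕ) (P : ℕ) : Bool :=
  (w.all fun a => Nat.ble 2 a && Nat.blt a 8) &&
    (List.range 114).all fun i => Nat.beq (lane 8 P i) (ONL37.wapp (w.map fun a => a - 2) i)

/-- Check: a word in the six involutions. -/
noncomputable def inHW (w : List ℕ) : Bool := w.all fun a => Nat.ble 2 a && Nat.blt a 8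

theorem inHW_spec {w : List ℕ} (h : inHW w = true) : ∀ a ∈ w, 2 ≤ a ∧ a < 8 := by
  simpa [inHW, List.all_eq_true] using h

theorem el_mem_hsub {w : List ℕ} (h : inHW w = true) : el w ∈ hsub := by
  refine Setup.ev_mem _ _ w fun a ha => ?_
  obtain ⟨h1, h2⟩ := inHW_spec h a ha
  have := qel_eq (a - 2) (by omega)
  rw [Nat.sub_add_cancel h1] at this
  rw [← this]
  exact SetLike.coe_mem _

theorem el_lt {w : List ℕ} (h : inHW w = true) : ∀ a ∈ w, a < on122760.k := fun a ha => by
  have := (inHW_spec h a ha).2
  exact this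

/-- The incidence table is respected. -/
theorem gperm_respects : ∀ k : Fin 6, ∀ i j : Fin 114,
    incB incTab (ONL37.gfun k i) (ONL37.gfun k j) = incB incTab i j := by decide +kernel

theorem act114_respects (h : hsub) : Respects incTab (act114 h) := by
  suffices hr : psi.range ≤ respecting incTab from hr ⟨_, rfl⟩
  rw [MonoidHom.range_eq_map, ← PresentedGroup.closure_range_of qSetup.rels, MonoidHom.map_closure,
    Subgroup.closure_le]
  rintro _ ⟨_, ⟨x, rfl⟩, rfl⟩
  show Respects incTab _
  rw [show psi (PresentedGroup.of x) = ONL37.gperm (ONL37.num x) from PresentedGroup.toGroup.of ONL37.gperm_rels]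
  exact fun i j => gperm_respects _ i j

theorem act114_el : ∀ (w : List ℕ) (h : inHW w = true) (i : Fin 114),
    (act114 ⟨el w, el_mem_hsub h⟩ i : ℕ) = ONL37.wapp (w.map fun a => a - 2) i
  | [], h, i => by
    rw [show (⟨el [], el_mem_hsub h⟩ : hsub) = 1 from rfl, map_one]
    rfl
  | a :: v, h, i => by
    have hv : inHW v = true := by
      simp only [inHW, List.all_cons, Bool.and_eq_true] at h
      exact h.2
    have ha : inHW [a] = true := by
      simp only [inHW, List.all_cons, List.all_nil, Bool.and_eq_true] at h ⊢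
      exact ⟨h.1, trivial⟩
    obtain ⟨h1, h2⟩ := inHW_spec h a List.mem_cons_self
    have e : (⟨el (a :: v), el_mem_hsub h⟩ : hsub) = ⟨el v, el_mem_hsub hv⟩ * ⟨el [a], el_mem_hsub ha⟩ :=
      Subtype.ext (by show el v * onSetup.el a = el v * (1 * onSetup.el a); rw [one_mul])
    have e1 : (⟨el [a], el_mem_hsub ha⟩ : hsub) = equivH (qSetup.el (a - 2)) :=
      Subtype.ext (by
        rw [qel_eq (a - 2) (by omega), Nat.sub_add_cancel h1]
        show 1 * onSetup.el a = _
        rw [one_mul])
    rw [e, map_mul, Equiv.Perm.mul_apply, act114_el v hv, e1]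
    show ONL37.wapp _ ((psi (equivH.symm (equivH (qSetup.el (a - 2)))) i : Fin 114) : ℕ) = _
    rw [MulEquiv.symm_apply_apply, psi_qel ⟨a - 2, by omega⟩]
    rfl

theorem tabOf_el {w : List ℕ} {P : ℕ} (h : hWordOK w P = true) :
    ∃ hw : inHW w = true, TabOf P (act114 ⟨el w, el_mem_hsub hw⟩) := by
  simp only [hWordOK, Bool.and_eq_true] at h
  have hw : inHW w = true := by simpa [inHW, List.all_eq_true] using h.1
  refine ⟨hw, fun i => ?_⟩
  rw [act114_el w hw i]
  exact Nat.eq_of_beq_eq_true (List.all_eq_true.mp h.2 i (List.mem_range.mpr i.2))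

/-- The only points fixed by a word. -/
noncomputable def fixOnly (w F : List ℕ) : Bool :=
  (w.all fun a => Nat.blt a on122760.k) && (Nat.blt 1 on122760.B &&
  force (on122760.trace w) fun V => force on122760.one fun one =>
    force (below on122760.B on122760.n one) fun bl =>
      Nat.beq (OutColour.eqv on122760.B one bl V on122760.idv)
        (F.foldr (fun c M => Nat.lor (OutColour.bit on122760.B c) M) 0))

theorem fix_mem_of_fixOnly {w F : List ℕ} (h : fixOnly w F = true) {i : ℕ} (hi : i < on122760.n)
    (hfix : pt (el w) i = i) : i ∈ F := by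
  simp only [fixOnly, Bool.and_eq_true, List.all_eq_true, Nat.blt_eq, force_eq, beq_iff] at h
  obtain ⟨hw, hB, h⟩ := h
  have hp := Cfsg.Agent.S1692.table.perm
  rw [pt_el hw hi] at hfix
  have hiN := lt_of_lt_of_le hi hp.hnN
  have hhalf : ∀ j < 2 ^ on122760.lg, j < 2 ^ (on122760.B - 1) := fun j hj =>
    lt_of_lt_of_le hj (Nat.pow_le_pow_right (by norm_num) (by have := hp.hlg; omega))
  have hone : Data.one on122760 = pack on122760.B (2 ^ on122760.lg) (fun _ => 1) := rep_eq _ _
  have hM : OutColour.Has on122760.B (below on122760.B on122760.n (Data.one on122760)) i := by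
    rw [hone, below_eq hp.hB]
    refine OutColour.has_pack hp.hB (fun j _ => ?_) hiN (by rw [if_pos hi])
    have : 1 < 2 ^ on122760.B := Nat.one_lt_two_pow (by omega)
    split <;> omega
  have hI : Data.idv on122760 = pack on122760.B (2 ^ on122760.lg) (fun j => j) := ramp_eq _ _
  have h1 := OutColour.has_eqv (f := fun j => on122760.tw w j) (g := fun j => j) hB
    (fun j hj => hhalf _ (Data.tw_lt hp w hw j hj)) hhalf hiN hM hfix
  rw [hone] at h
  rw [hone] at hM h1
  rw [← Data.trace_eq hp w hw, ← hI] at h1
  rw [h] at h1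
  clear h
  induction F with
  | nil => exact absurd h1 OutColour.not_has_zero
  | cons c F ih =>
    rw [List.foldr_cons, OutColour.has_lor, OutColour.has_bit hp.hB] at h1
    rcases h1 with rfl | h1
    · exact List.mem_cons_self
    · exact List.mem_cons_of_mem _ (ih h1)

end Cfsg.Agent.OutON
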