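/-
A normaliser of a subgroup of prime order is known exactly once it is known up to a factor below the prime.
Main results: `normalizer_small`.
-/
import Cfsg.Agent.EqLemmas

set_option autoImplicit false

namespace Cfsg.Agent.OutON

variable {G : Type} [Group G]

/-- If every element normalising `⟨x⟩` is counted by `L` keys, the normaliser is `⟨x, y⟩`. -/
theorem normalizer_small [Finite G] {p r : ℕ} [hp : Fact p.Prime] {x y : G} (s : ℕ)
    (hx : orderOf x = p) (hy : orderOf y = r) (hyx : y * x * y⁻¹ = x ^ s) (hcop : Nat.Coprime p r)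
    (hp2 : ¬ p ^ 2 ∣ Nat.card G) {K : Type} [Finite K]
    (key : ∀ g : G, g * x * g⁻¹ ∈ Subgroup.zpowers x → K)
    (hkey : ∀ g h hg hh, key g hg = key h hh → g = h)
    (hidx : ∀ m ≤ Nat.card K / (p * r), 2 ≤ m → p * r * m ∣ Nat.card G → Nat.card G / (p * r * m) % p ≠ 1)
    {g : G} (hg : g * x * g⁻¹ ∈ Subgroup.zpowers x) : ∃ a b : ℕ, g = x ^ a * y ^ b := by
  classical
  set N := Subgroup.normalizer ((Subgroup.zpowers x : Subgroup G) : Set G) with hN
  have hmemN : ∀ h : G, h * x * h⁻¹ ∈ Subgroup.zpowers x → h ∈ N := by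
    intro h hh
    rw [hN, Subgroup.mem_normalizer_iff]
    have hle : (Subgroup.zpowers x).map (MulAut.conj h).toMonoidHom = Subgroup.zpowers x := by
      refine Subgroup.eq_of_le_of_card_ge ?_ ?_
      · rw [MonoidHom.map_zpowers, Subgroup.zpowers_le]
        exact hh
      · rw [Subgroup.card_map_of_injective (MulAut.conj h).injective]
    intro n
    constructor
    · intro hn
      have := Subgroup.mem_map_of_mem (MulAut.conj h).toMonoidHom hn
      rw [hle] at this
      exact this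
    · intro hn
      change h * n * h⁻¹ ∈ Subgroup.zpowers x at hn
      rw [← hle] at hn
      obtain ⟨m, hm, e⟩ := hn
      rwa [← (MulAut.conj h).injective e]
  have hxN : x ∈ N := Subgroup.le_normalizer (Subgroup.mem_zpowers x)
  have hyN : y ∈ N := hmemN y (hyx ▸ pow_mem (Subgroup.mem_zpowers x) s)
  have hn' : ∀ n : N, (n : G) * x * (n : G)⁻¹ ∈ Subgroup.zpowers x := fun n =>
    (Subgroup.mem_normalizer_iff.1 n.2 x).1 (Subgroup.mem_zpowers x)
  have hNle : Nat.card N ≤ Nat.card K :=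
    Nat.card_le_card_of_injective (fun n : N => key n (hn' n)) fun n m e => Subtype.ext (hkey _ _ _ _ e)
  have hdx : p ∣ Nat.card N := hx ▸ Subgroup.orderOf_dvd_natCard N hxN
  have hdy : r ∣ Nat.card N := hy ▸ Subgroup.orderOf_dvd_natCard N hyN
  have hd : p * r ∣ Nat.card N := hcop.mul_dvd_of_dvd_of_dvd hdx hdy
  have hcardN : Nat.card N = p * r := by
    obtain ⟨m, hm⟩ := hd
    have hpos : 0 < Nat.card N := Nat.card_pos
    have hpr : 0 < p * r := by
      rcases Nat.eq_zero_or_pos (p * r) with h | h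
      · rw [h, zero_mul] at hm; omega
      · exact h
    rcases Nat.lt_or_ge m 2 with h | h
    · interval_cases m <;> omega
    exfalso
    have hdvd : p * r * m ∣ Nat.card G := hm ▸ Subgroup.card_subgroup_dvd_card N
    refine hidx m ?_ h hdvd ?_
    · rw [Nat.le_div_iff_mul_le hpr, mul_comm, ← hm]
      exact hNle
    have hne : Nat.card G ≠ 0 := Nat.card_pos.ne'
    have hfac : p ^ (Nat.card G).factorization p = p := by
      have h1 : p ∣ Nat.card G := hx ▸ orderOf_dvd_natCard x
      have h3 := (hp.out.pow_dvd_iff_le_factorization hne).not.1 hp2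
      have h4 := (hp.out.pow_dvd_iff_le_factorization (k := 1) hne).1 (by rwa [pow_one])
      rw [show (Nat.card G).factorization p = 1 by omega, pow_one]
    let P : Sylow p G := Sylow.ofCard (Subgroup.zpowers x) (by rw [Nat.card_zpowers, hx, hfac])
    have h1 := card_sylow_modEq_one p G
    rw [P.card_eq_index_normalizer] at h1
    change N.index % p = 1 % p at h1
    rw [Nat.one_mod_eq_one.2 hp.out.ne_one] at h1
    rw [← Subgroup.card_mul_index N, hm, Nat.mul_div_cancel_left _ (by rw [← hm]; exact hpos)]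
    exact h1
  have hinj : Function.Injective (fun ab : Fin p × Fin r =>
      (⟨x ^ (ab.1 : ℕ) * y ^ (ab.2 : ℕ), N.mul_mem (pow_mem hxN _) (pow_mem hyN _)⟩ : N)) := by
    rintro ⟨a, b⟩ ⟨a', b'⟩ e
    have e1 : x ^ (a : ℕ) * y ^ (b : ℕ) = x ^ (a' : ℕ) * y ^ (b' : ℕ) := congrArg Subtype.val e
    have e2 : (x ^ (a' : ℕ))⁻¹ * x ^ (a : ℕ) = y ^ (b' : ℕ) * (y ^ (b : ℕ))⁻¹ := by
      rw [eq_mul_inv_iff_mul_eq, mul_assoc, e1, inv_mul_cancel_left]
    have e3 : y ^ (b' : ℕ) * (y ^ (b : ℕ))⁻¹ = 1 := by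
      rw [← orderOf_eq_one_iff]
      refine Nat.eq_one_of_dvd_coprimes hcop ?_ ?_
      · have : (x ^ (a' : ℕ))⁻¹ * x ^ (a : ℕ) ∈ Subgroup.zpowers x :=
          mul_mem (inv_mem (pow_mem (Subgroup.mem_zpowers x) _)) (pow_mem (Subgroup.mem_zpowers x) _)
        have hd := Subgroup.orderOf_dvd_natCard _ this
        rwa [Nat.card_zpowers, hx, e2] at hd
      · have hd := Subgroup.orderOf_dvd_natCard (Subgroup.zpowers y)
          (mul_mem (pow_mem (Subgroup.mem_zpowers y) (b' : ℕ)) (inv_mem (pow_mem (Subgroup.mem_zpowers y) (b : ℕ))))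
        rwa [Nat.card_zpowers, hy] at hd
    rw [mul_inv_eq_one] at e3
    rw [e3, mul_left_inj] at e1
    have hb : b = b' := Fin.ext (pow_injOn_Iio_orderOf (by simp [hy]) (by simp [hy]) e3.symm)
    have ha : a = a' := Fin.ext (pow_injOn_Iio_orderOf (by simp [hx]) (by simp [hx]) e1)
    rw [ha, hb]
  have hbij := hinj.bijective_of_nat_card_le (by rw [Nat.card_prod, Nat.card_fin, Nat.card_fin, hcardN])
  obtain ⟨⟨a, b⟩, e⟩ := hbij.2 ⟨g, hmemN g hg⟩
  exact ⟨a, b, (congrArg Subtype.val e).symm⟩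

end Cfsg.Agent.OutON
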