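/-
The normaliser of the element of order 19 and the centraliser of the element of order 6 in the O'Nan group.
Main results: `normX`, `centY`.
-/
import Cfsg.Agent.Lib.OutON.Base
import Cfsg.Agent.Lib.OutON.Norm

set_option autoImplicit false
set_option Elab.async false

namespace Cfsg.Agent.OutON

open Cfsg.Agent.CosetEnum
open Cfsg.Agent.CosetEnum.Data (ev)

/-- The element of order 19. -/
noncomputable def gx : G := el wX

/-- The element of order 6. -/
noncomputable def gy : G := el wY

/-- The candidates for elements commuting with the element of order 6. -/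
def cands : List (List ℕ) := repY.flatMap fun r => centH.map fun c => c ++ r

theorem tabX_ok : hWordOK wX tabX = true := by decide +kernel

theorem tabY_ok : hWordOK wY tabY = true := by decide +kernel

theorem fixX : fixOnly wX [0] = true := by decide +kernel

theorem fixY : fixOnly wY (orbY ++ otherY) = true := by decide +kernel

theorem stepsX_ok : stepsOK incTab stepsX startX = true := by decide +kernel

theorem stepsY_ok : stepsOK incTab stepsY startY = true := by decide +kernel

theorem startX_ok : (startX.all fun v => (List.range 19).any fun k => Nat.beq (itT tabX k 0) v) = true := by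
  decide +kernel

theorem startY_ok : (startY.all fun v => (List.range 6).any fun k =>
    Nat.beq (itT tabY k 0) v || Nat.beq (itT tabY k 2) v) = true := by decide +kernel

theorem solsY_ok : sols incTab tabY tabY 7 0 2 = solsY := by decide +kernel

theorem otherTab_ok : ((List.range 3).all fun j => hWordOK (otherConj.getD j []) (otherTab.getD j 0)) = true := by
  decide +kernel

theorem otherSols_ok : ((List.range 3).all fun j => (sols incTab tabY (otherTab.getD j 0) 7 0 2).isEmpty) = true := by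
  decide +kernel

theorem otherTree_ok : ((List.range 3).all fun j => sameW (otherTree.getD j [] ++ wY ++ winv (otherTree.getD j []))
    (otherConj.getD j []) && ((otherTree.getD j []).all (fun a => Nat.blt a on122760.k) &&
      Nat.beq (on122760.tw (otherTree.getD j []) 0) (otherY.getD j 0))) = true := by decide +kernel

theorem rep_ok : ((List.range 6).all fun j => sameW (repY.getD j [] ++ wY) (wY ++ repY.getD j []) &&
    ((repY.getD j []).all (fun a => Nat.blt a on122760.k) &&
      Nat.beq (on122760.tw (repY.getD j []) 0) (orbY.getD j 0))) = true := by decide +kernel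

theorem centH_ok : ((List.range 12).all fun k => inHW (centH.getD k []) &&
    (sameW (centH.getD k [] ++ wY) (wY ++ centH.getD k []) &&
    (Nat.beq (ONL37.wapp ((centH.getD k []).map fun a => a - 2) 0) (solsY.getD k (0, 0)).1 &&
      Nat.beq (ONL37.wapp ((centH.getD k []).map fun a => a - 2) 2) (solsY.getD k (0, 0)).2))) = true := by
  decide +kernel

theorem sizes : orbY.length = 6 ∧ otherY.length = 3 ∧ centH.length = 12 ∧ solsY.length = 12 ∧ repY.length = 6 ∧
    Nat.blt 0 on122760.n = true := by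
  decide +kernel

theorem n_pos : 0 < on122760.n := Nat.le_of_ble_eq_true sizes.2.2.2.2.2

theorem pt_fix_pow {g : G} {i : ℕ} (h : pt g i = i) : ∀ m : ℕ, pt (g ^ m) i = i
  | 0 => by rw [pow_zero, pt_one]
  | m + 1 => by rw [pow_succ, pt_mul, h, pt_fix_pow h m]

theorem gx_mem : gx ∈ hsub := by
  obtain ⟨hw, -⟩ := tabOf_el tabX_ok
  exact el_mem_hsub hw

theorem gy_mem : gy ∈ hsub := by
  obtain ⟨hw, -⟩ := tabOf_el tabY_ok
  exact el_mem_hsub hw

theorem fix_of_gx {i : ℕ} (hi : i < on122760.n) (h : pt gx i = i) : i = 0 := by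
  simpa using fix_mem_of_fixOnly fixX hi h

theorem tabX_act : TabOf tabX (act114 ⟨gx, gx_mem⟩) := (tabOf_el tabX_ok).2

theorem tabY_act : TabOf tabY (act114 ⟨gy, gy_mem⟩) := (tabOf_el tabY_ok).2

/-- Keys for the elements normalising the subgroup of order 19. -/
theorem exists_key (g : G) (hg : g * gx * g⁻¹ ∈ Subgroup.zpowers gx) (hx19 : orderOf gx = 19) :
    ∃ (hm : g ∈ hsub) (j : Fin 19), act114 ⟨g, hm⟩ * act114 ⟨gx, gx_mem⟩ =
      act114 ⟨gx, gx_mem⟩ ^ (j : ℕ) * act114 ⟨g, hm⟩ := by
  have hfin : IsOfFinOrder gx := orderOf_pos_iff.mp (by rw [hx19]; norm_num)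
  obtain ⟨j, hj⟩ := (hfin.mem_powers_iff_mem_zpowers.mpr hg)
  change gx ^ j = g * gx * g⁻¹ at hj
  have hgx : g * gx = gx ^ j * g := by rw [hj]; group
  have hx0 : pt gx 0 = 0 := (mem_hsub_iff gx).mp gx_mem
  have hj0 : ¬ 19 ∣ j := fun h => by
    have : gx ^ j = 1 := orderOf_dvd_iff_pow_eq_one.mp (by rwa [hx19])
    rw [this, eq_comm, mul_inv_eq_one, mul_eq_left] at hj
    rw [hj, orderOf_one] at hx19
    norm_num at hx19
  have h1 : pt (gx ^ j) (pt g 0) = pt g 0 := by
    rw [← pt_mul, ← hgx, pt_mul, hx0]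
  obtain ⟨m, hm⟩ : ∃ m, (gx ^ j) ^ m = gx := by
    obtain ⟨m, hm⟩ := exists_pow_eq_self_of_coprime (x := gx) (n := j)
      (by rw [hx19]; exact Nat.Coprime.symm ((show Nat.Prime 19 by norm_num).coprime_iff_not_dvd.mpr hj0))
    exact ⟨m, hm⟩
  have h2 : pt gx (pt g 0) = pt g 0 := by
    have := pt_fix_pow h1 m
    rwa [hm] at this
  have hmem : g ∈ hsub := (mem_hsub_iff g).mpr (fix_of_gx (pt_lt n_pos) h2)
  refine ⟨hmem, ⟨j % 19, Nat.mod_lt _ (by norm_num)⟩, ?_⟩
  rw [← map_pow, ← map_mul, ← map_mul]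
  congr 1
  refine Subtype.ext ?_
  show g * gx = gx ^ (j % 19) * g
  rw [hgx, ← hx19, pow_mod_orderOf]

theorem act_eq_of_two {σ τ : Equiv.Perm (Fin 114)} (hσ : Respects incTab σ) (hτ : Respects incTab τ)
    {P : Equiv.Perm (Fin 114)} {j : ℕ} (hP : TabOf tabX P) (hs : σ * P = P ^ j * σ) (ht : τ * P = P ^ j * τ)
    (h0 : σ 0 = τ 0) : σ = τ := by
  refine eq_of_agree hσ hτ _ _ stepsX_ok fun v hv hv' => ?_
  obtain ⟨k, -, hk⟩ := List.any_eq_true.mp (List.all_eq_true.mp startX_ok v hv)
  have e := itT_eq hP (0 : Fin 114) k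
  rw [show (⟨v, hv'⟩ : Fin 114) = (P ^ k) 0 from Fin.ext ((Nat.eq_of_beq_eq_true hk).symm.trans e)]
  have hp : ∀ (η : Equiv.Perm (Fin 114)), η * P = P ^ j * η → η * P ^ k = (P ^ j) ^ k * η := fun η h => by
    exact (SemiconjBy.pow_right (show SemiconjBy η P (P ^ j) from h) k).eq
  rw [← Equiv.Perm.mul_apply, ← Equiv.Perm.mul_apply, hp σ hs, hp τ ht, Equiv.Perm.mul_apply,
    Equiv.Perm.mul_apply, h0]

/-- The normaliser of the subgroup of order 19. -/
theorem normX [Finite G] (hcard : Nat.card G = 460815505920) (hx : orderOf gx = 19) (hy : orderOf gy = 6)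
    (hyx : gy * gx * gy⁻¹ = gx ^ 12) {g : G} (hg : g * gx * g⁻¹ ∈ Subgroup.zpowers gx) :
    ∃ a b : ℕ, g = gx ^ a * gy ^ b := by
  haveI : Fact (Nat.Prime 19) := ⟨by norm_num⟩
  refine normalizer_small (K := Fin 19 × Fin 114) 12 hx hy hyx (by norm_num) (by rw [hcard]; norm_num)
    (fun g hg => ((exists_key g hg hx).choose_spec.choose,
      act114 ⟨g, (exists_key g hg hx).choose⟩ 0)) ?_ ?_ hg
  · intro g h hg hh e
    obtain ⟨e1, e2⟩ := Prod.mk.injEq _ _ _ _ ▸ e
    have s1 := (exists_key g hg hx).choose_spec.choose_spec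
    have s2 := (exists_key h hh hx).choose_spec.choose_spec
    rw [← e1] at s2
    exact congrArg Subtype.val (act114_injective
      (act_eq_of_two (act114_respects _) (act114_respects _) tabX_act s1 s2 e2))
  · rw [Nat.card_prod, Nat.card_fin, Nat.card_fin, hcard]
    intro m hm h2 hd
    interval_cases m <;> first | omega | (revert hd; decide)

theorem act_eq_on_pair {σ τ : Equiv.Perm (Fin 114)} (hσ : Respects incTab σ) (hτ : Respects incTab τ)
    {P : Equiv.Perm (Fin 114)} (hP : TabOf tabY P) (hs : σ * P = P * σ) (ht : τ * P = P * τ)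
    (h0 : σ 0 = τ 0) (h2 : σ 2 = τ 2) : σ = τ := by
  refine eq_of_agree hσ hτ _ _ stepsY_ok fun v hv hv' => ?_
  obtain ⟨k, -, hk⟩ := List.any_eq_true.mp (List.all_eq_true.mp startY_ok v hv)
  have key : ∀ i : Fin 114, σ i = τ i → v = itT tabY k i → σ ⟨v, hv'⟩ = τ ⟨v, hv'⟩ := fun i hi e => by
    rw [show (⟨v, hv'⟩ : Fin 114) = (P ^ k) i from Fin.ext (e.trans (itT_eq hP i k)), ← Equiv.Perm.mul_apply,
      ← Equiv.Perm.mul_apply, ((show Commute σ P from hs).pow_right k).eq,
      ((show Commute τ P from ht).pow_right k).eq, Equiv.Perm.mul_apply, Equiv.Perm.mul_apply, hi]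
  simp only [Bool.or_eq_true, beq_iff] at hk
  rcases hk with hk | hk
  · exact key 0 h0 hk.symm
  · exact key 2 h2 hk.symm

theorem getD_of_mem {α : Type} {l : List α} {v : α} (d : α) (h : v ∈ l) : ∃ i < l.length, l.getD i d = v := by
  obtain ⟨i, hi, e⟩ := List.getElem_of_mem h
  exact ⟨i, hi, by rw [List.getD_eq_getElem _ _ hi, e]⟩

theorem getD_mem {α : Type} {l : List α} {i : ℕ} (d : α) (h : i < l.length) : l.getD i d ∈ l := by
  rw [List.getD_eq_getElem _ _ h]; exact List.getElem_mem _

/-- The elements commuting with the element of order 6. -/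
theorem centY {g : G} (hg : g * gy = gy * g) : ∃ w ∈ cands, g = el w := by
  obtain ⟨l1, l2, l3, l4, l5, -⟩ := sizes
  have hy0 : pt gy 0 = 0 := (mem_hsub_iff gy).mp gy_mem
  have hfix : pt gy (pt g 0) = pt g 0 := by rw [← pt_mul, ← hg, pt_mul, hy0]
  rcases List.mem_append.mp (fix_mem_of_fixOnly fixY (pt_lt n_pos) hfix) with hf | hf
  · obtain ⟨j, hj, hjf⟩ := getD_of_mem 0 hf
    rw [l1] at hj
    have hr := List.all_eq_true.mp rep_ok j (List.mem_range.mpr hj)
    simp only [Bool.and_eq_true, List.all_eq_true, Nat.blt_eq, beq_iff] at hr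
    obtain ⟨hrc, hrlt, hr0⟩ := hr
    set r := el (repY.getD j []) with hrdef
    have hrc' : r * gy = gy * r := by
      have := eq_of_base hrc
      rw [el_append, el_append] at this
      exact this.symm
    have hh : r⁻¹ * g ∈ hsub := by
      rw [mem_hsub_iff, pt_mul, ← hjf, ← hr0, ← pt_el hrlt n_pos, ← hrdef, ← pt_mul, inv_mul_cancel, pt_one]
    have hc : (⟨r⁻¹ * g, hh⟩ : hsub) * ⟨gy, gy_mem⟩ = ⟨gy, gy_mem⟩ * ⟨r⁻¹ * g, hh⟩ :=
      Subtype.ext (show r⁻¹ * g * gy = gy * (r⁻¹ * g) by
        rw [mul_assoc, hg, ← mul_assoc, ← mul_assoc, (show Commute r gy from hrc').inv_left.eq])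
    have hc' := congrArg act114 hc
    rw [map_mul, map_mul] at hc'
    have hsol := mem_sols (m := 7) tabY_act tabY_act (act114_respects _) hc' 0 2
    change _ ∈ sols incTab tabY tabY 7 0 2 at hsol
    rw [solsY_ok] at hsol
    obtain ⟨k, hk, hk'⟩ := getD_of_mem (0, 0) hsol
    rw [l4] at hk
    have hck := List.all_eq_true.mp centH_ok k (List.mem_range.mpr hk)
    simp only [Bool.and_eq_true, beq_iff] at hck
    obtain ⟨hin, hcc, hc0, hc2⟩ := hck
    have hcy : (⟨el (centH.getD k []), el_mem_hsub hin⟩ : hsub) * ⟨gy, gy_mem⟩ =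
        ⟨gy, gy_mem⟩ * ⟨el (centH.getD k []), el_mem_hsub hin⟩ := by
      refine Subtype.ext ?_
      have := eq_of_base hcc
      rw [el_append, el_append] at this
      exact this.symm
    have hcy' := congrArg act114 hcy
    rw [map_mul, map_mul] at hcy'
    have e : r⁻¹ * g = el (centH.getD k []) := congrArg Subtype.val (act114_injective
      (act_eq_on_pair (act114_respects _) (act114_respects _) tabY_act hc' hcy'
        (Fin.ext (by rw [act114_el _ hin]; exact ((congrArg Prod.fst hk').symm.trans hc0.symm)))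
        (Fin.ext (by rw [act114_el _ hin]; exact ((congrArg Prod.snd hk').symm.trans hc2.symm)))))
    refine ⟨centH.getD k [] ++ repY.getD j [], List.mem_flatMap.mpr ⟨_, getD_mem _ (by omega),
      List.mem_map.mpr ⟨_, getD_mem _ (by omega), rfl⟩⟩, ?_⟩
    rw [el_append, ← hrdef, ← e, mul_inv_cancel_left]
  · exfalso
    obtain ⟨j, hj, hjf⟩ := getD_of_mem 0 hf
    rw [l2] at hj
    have ht := List.all_eq_true.mp otherTree_ok j (List.mem_range.mpr hj)
    simp only [Bool.and_eq_true, List.all_eq_true, Nat.blt_eq, beq_iff] at ht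
    obtain ⟨htc, htlt, ht0⟩ := ht
    obtain ⟨hu, htab⟩ := tabOf_el (List.all_eq_true.mp otherTab_ok j (List.mem_range.mpr hj))
    set t := el (otherTree.getD j []) with htdef
    have htu : t⁻¹ * gy * t = el (otherConj.getD j []) := by
      rw [← eq_of_base htc, el_append, el_append, el_winv htlt, mul_assoc]
      rfl
    have hh : t⁻¹ * g ∈ hsub := by
      rw [mem_hsub_iff, pt_mul, ← hjf, ← ht0, ← pt_el htlt n_pos, ← htdef, ← pt_mul, inv_mul_cancel, pt_one]
    have hc : (⟨t⁻¹ * g, hh⟩ : hsub) * ⟨gy, gy_mem⟩ = ⟨el (otherConj.getD j []), el_mem_hsub hu⟩ * ⟨t⁻¹ * g, hh⟩ :=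
      Subtype.ext (show t⁻¹ * g * gy = el _ * (t⁻¹ * g) by
        rw [← htu, mul_assoc, hg]; group)
    have hc' := congrArg act114 hc
    rw [map_mul, map_mul] at hc'
    have hsol := mem_sols (m := 7) tabY_act htab (act114_respects _) hc' 0 2
    change _ ∈ sols incTab tabY _ 7 0 2 at hsol
    have hemp := List.all_eq_true.mp otherSols_ok j (List.mem_range.mpr hj)
    rw [List.isEmpty_iff] at hemp
    rw [hemp] at hsol
    exact List.not_mem_nil hsol

end Cfsg.Agent.OutON
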