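/-
Kernel checks for the outer automorphism group of the O'Nan group.
Main results: `kills_ok`, `fwsRel_ok`, `genS_ok`.
-/
import Cfsg.Agent.Lib.OutON.Centralisers

set_option autoImplicit false
set_option Elab.async false

namespace Cfsg.Agent.OutON

open Cfsg.Agent.CosetEnum

/-- The letter words of the codes `x ^ i, x ^ -i, y, z, z⁻¹`. -/
noncomputable def codeW (i : ℕ) (c : List ℕ) : ℕ → List ℕ
  | 0 => Setup.wpow wX i
  | 1 => winv (Setup.wpow wX i)
  | 2 => wY
  | 3 => c
  | _ => winv c

/-- A relation as a word in letters. -/
noncomputable def relW (i : ℕ) (c : List ℕ) (r : ℕ) : List ℕ :=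
  (Setup.wpow (relList.getD r ([], 0)).1 (relList.getD r ([], 0)).2).flatMap (codeW i c)

/-- One elimination. -/
noncomputable def killOK (e : ℕ × ℕ × ℕ × ℕ) : Bool :=
  Nat.blt e.2.2.1 relList.length && (Nat.blt e.2.1 cands.length && (Nat.blt e.2.2.2 on122760.n &&
    ((cands.getD e.2.1 []).all (fun a => Nat.blt a on122760.k) &&
      ((relW e.1 (cands.getD e.2.1 []) e.2.2.1).all (fun a => Nat.blt a on122760.k) &&
        !Nat.beq (on122760.tw (relW e.1 (cands.getD e.2.1 []) e.2.2.1) e.2.2.2) e.2.2.2))))

theorem kills0_ok : kills0.all killOK = true := by decide +kernel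
theorem kills1_ok : kills1.all killOK = true := by decide +kernel
theorem kills2_ok : kills2.all killOK = true := by decide +kernel
theorem kills3_ok : kills3.all killOK = true := by decide +kernel
theorem kills4_ok : kills4.all killOK = true := by decide +kernel
theorem kills5_ok : kills5.all killOK = true := by decide +kernel
theorem kills6_ok : kills6.all killOK = true := by decide +kernel
theorem kills7_ok : kills7.all killOK = true := by decide +kernel
theorem kills8_ok : kills8.all killOK = true := by decide +kernel

theorem kills_ok : kills.all killOK = true := by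
  simp only [kills, List.all_append, kills0_ok, kills1_ok, kills2_ok, kills3_ok, kills4_ok, kills5_ok,
    kills6_ok, kills7_ok, kills8_ok, Bool.and_self]

theorem cover_ok : ([1, 2, 4].all fun i => (List.range cands.length).all fun j =>
    (i == 1 && (j == keepId || j == keepOuter)) || kills.any fun e => e.1 == i && e.2.1 == j) = true := by
  decide +kernel

theorem keepId_ok : sameW (cands.getD keepId []) wZ = true := by decide +kernel

theorem keepOuter_ok : sameW (cands.getD keepOuter []) wZ2 = true := by decide +kernel

theorem relsZ_ok : ((List.range 3).all fun r =>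
    Cfsg.Agent.ONReal.baseFixed on122760 on122760_chain (relW 1 wZ r)) = true := by decide +kernel

/-- The image of a word under the endomorphism. -/
def fwW (w : List ℕ) : List ℕ := w.flatMap fun a => fws.getD a []

theorem fwsInv_ok : ((List.range 8).all fun a =>
    Cfsg.Agent.ONReal.baseFixed on122760 on122760_chain (fwW [on122760.invl a, a])) = true := by decide +kernel

/-- A run of relators is killed by the endomorphism. -/
noncomputable def fwChunk (lo m : ℕ) : Bool :=
  ((onSetup.allRels.drop lo).take m).all fun r =>
    Cfsg.Agent.ONReal.baseFixed on122760 on122760_chain (fwW (onSetup.wl on122760 r))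

theorem fw0 : fwChunk 0 4 = true := by decide +kernel
theorem fw1 : fwChunk 4 4 = true := by decide +kernel
theorem fw2 : fwChunk 8 4 = true := by decide +kernel
theorem fw3 : fwChunk 12 4 = true := by decide +kernel
theorem fw4 : fwChunk 16 4 = true := by decide +kernel
theorem fw5 : fwChunk 20 4 = true := by decide +kernel
theorem fw6 : fwChunk 24 4 = true := by decide +kernel
theorem fw7 : fwChunk 28 4 = true := by decide +kernel
theorem fw8 : fwChunk 32 4 = true := by decide +kernel
theorem fw9 : fwChunk 36 4 = true := by decide +kernel
theorem fw10 : fwChunk 40 4 = true := by decide +kernel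
theorem fw11 : fwChunk 44 4 = true := by decide +kernel

theorem fwChunk_append {lo m m' : ℕ} (h₁ : fwChunk lo m = true) (h₂ : fwChunk (lo + m) m' = true) :
    fwChunk lo (m + m') = true := by
  unfold fwChunk at *
  rw [List.take_add, List.all_append, h₁, List.drop_drop, h₂]
  rfl

theorem allRels_len : Nat.ble onSetup.allRels.length 48 = true := by decide +kernel

theorem fwsRel_ok : ∀ r ∈ onSetup.allRels,
    Cfsg.Agent.ONReal.baseFixed on122760 on122760_chain (fwW (onSetup.wl on122760 r)) = true := by
  have h := fwChunk_append (fwChunk_append (fwChunk_append (fwChunk_append (fwChunk_append (fwChunk_append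
    (fwChunk_append (fwChunk_append (fwChunk_append (fwChunk_append (fwChunk_append fw0 fw1) fw2) fw3) fw4) fw5)
    fw6) fw7) fw8) fw9) fw10) fw11
  unfold fwChunk at h
  rw [List.drop_zero, List.take_of_length_le (Nat.le_of_ble_eq_true allRels_len)] at h
  exact fun r hr => List.all_eq_true.mp h r hr

theorem fwsFix_ok : (sameW (fwW wX) wX && (sameW (fwW wY) wY && sameW (fwW wZ) wZ2)) = true := by decide +kernel

theorem z_ne : (!Cfsg.Agent.ONReal.baseFixed on122760 on122760_chain (wZ ++ winv wZ2) &&
    ((wZ.all fun a => Nat.blt a on122760.k) && (wZ2.all fun a => Nat.blt a on122760.k))) = true := by decide +kernel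

/-- Words in `x, y, z`. -/
def xyzW : ℕ → List ℕ
  | 0 => wX
  | 1 => wY
  | _ => wZ

/-- Words in `x, y, s`. -/
def xysW : ℕ → List ℕ
  | 0 => wX
  | 1 => wY
  | _ => wS

theorem genS_ok : sameW (sylA.flatMap xyzW ++ winv (sylB.flatMap xyzW)) wS = true := by decide +kernel

theorem genLetters_ok : ((List.range 6).all fun a => sameW ((genW.getD a []).flatMap xysW) [a + 2]) = true := by
  decide +kernel

theorem genG_ok : (sameW (transH ++ transW.flatMap xyzW) [0] && inHW transH) = true := by decide +kernel

theorem ordX_ok : sameW (Setup.wpow wX 19) [] = true := by decide +kernel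

theorem ordY_ok : sameW (Setup.wpow wY 6) [] = true := by decide +kernel

theorem ordY_ne : ((List.range 6).all fun k => k == 0 || (Setup.wpow wY k).all (fun a => Nat.blt a on122760.k) &&
    !Cfsg.Agent.ONReal.baseFixed on122760 on122760_chain (Setup.wpow wY k)) = true := by decide +kernel

theorem ordX_ne : (!Cfsg.Agent.ONReal.baseFixed on122760 on122760_chain wX) = true := by decide +kernel

theorem yx_ok : (sameW (wX ++ wY) (wY ++ Setup.wpow wX 12) && sameW (wY ++ wZ) (wZ ++ wY)) = true := by
  decide +kernel

end Cfsg.Agent.OutON
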