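/-
The outer automorphism group of the O'Nan group has order 2.
Main results: `natCard_out_on`.
-/
import Cfsg.Agent.Lib.OutON.Checks
import Cfsg.Agent.Lib.OutColour.Main

set_option autoImplicit false

namespace Cfsg.Agent.OutON

open Cfsg.Agent.CosetEnum
open Cfsg.Agent.CosetEnum.Data (ev)

/-- The third generator. -/
noncomputable def gz : G := el wZ

/-- Its outer image. -/
noncomputable def gz2 : G := el wZ2

theorem ne_one_of_not_fixed {w : List ℕ} (hlt : ∀ a ∈ w, a < on122760.k)
    (h : Cfsg.Agent.ONReal.baseFixed on122760 on122760_chain w = false) : el w ≠ 1 := by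
  intro e
  have hr : ∀ b ∈ on122760_chain.map OrbitData.root, b < on122760.n := by
    have : ((on122760_chain.map OrbitData.root).all fun b => Nat.blt b on122760.n) = true := by decide +kernel
    simpa [List.all_eq_true] using this
  refine Bool.false_ne_true (h.symm.trans ?_)
  simp only [Cfsg.Agent.ONReal.baseFixed, Bool.and_eq_true, List.all_eq_true, Nat.blt_eq, beq_iff]
  exact ⟨hlt, fun b hb => by rw [← pt_el hlt (hr b hb), e, pt_one]⟩

theorem el_wpow (w : List ℕ) (m : ℕ) : el (Setup.wpow w m) = el w ^ m := Setup.ev_wpow _ w m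

theorem el_flatMap (f : ℕ → List ℕ) (w : List ℕ) : el (w.flatMap f) = ev (fun a => el (f a)) w :=
  Cfsg.Agent.ONReal.ev_flatMap _ f w

theorem el_single (a : ℕ) : el [a] = onSetup.el a := one_mul _

theorem el_nil : el [] = 1 := rfl

theorem inHW_lt {w : List ℕ} (h : inHW w = true) : ∀ a ∈ w, a < on122760.k := el_lt h

theorem wX_lt : ∀ a ∈ wX, a < on122760.k := by
  obtain ⟨hw, -⟩ := tabOf_el tabX_ok
  exact el_lt hw

theorem wY_lt : ∀ a ∈ wY, a < on122760.k := by
  obtain ⟨hw, -⟩ := tabOf_el tabY_ok
  exact el_lt hw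

theorem orderOf_gx : orderOf gx = 19 := by
  haveI : Fact (Nat.Prime 19) := ⟨by norm_num⟩
  refine orderOf_eq_prime ?_ (ne_one_of_not_fixed wX_lt (by simpa using ordX_ne))
  rw [gx, ← el_wpow, eq_of_base ordX_ok, el_nil]

theorem orderOf_gy : orderOf gy = 6 := by
  have h6 : gy ^ 6 = 1 := by rw [gy, ← el_wpow, eq_of_base ordY_ok, el_nil]
  refine (orderOf_eq_iff (by norm_num)).mpr ⟨h6, fun k hk hk0 => ?_⟩
  have h := List.all_eq_true.mp ordY_ne k (List.mem_range.mpr hk)
  simp only [Bool.or_eq_true, beq_iff_eq, Bool.and_eq_true, Bool.not_eq_true', List.all_eq_true, Nat.blt_eq] at h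
  rcases h with h | ⟨h1, h2⟩
  · omega
  · rw [gy, ← el_wpow]
    exact ne_one_of_not_fixed h1 h2

theorem gy_gx : gy * gx * gy⁻¹ = gx ^ 12 := by
  have h := yx_ok
  simp only [Bool.and_eq_true] at h
  have e := eq_of_base h.1
  rw [el_append, el_append, el_wpow] at e
  rw [gy, gx, e]
  group

theorem gz_gy : gz * gy = gy ^ 1 * gz := by
  have h := yx_ok
  simp only [Bool.and_eq_true] at h
  have e := eq_of_base h.2
  rw [el_append, el_append] at e
  rw [pow_one]
  exact e.symm ▸ rfl

/-- The endomorphism. -/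
theorem exists_hom : ∃ f : G →* G, f gx = gx ^ 1 ∧ f gy = gy ∧ f gz = gz2 := by
  have hl := Cfsg.Agent.S1692.table.letters
  obtain ⟨h1, h2⟩ := Setup.letters_spec onSetup_gens hl
  let em : ℕ → G := fun a => el (fws.getD a [])
  have hev : ∀ w, el (fwW w) = ev em w := fun w => el_flatMap _ w
  have hinv : ∀ x, em (on122760.invl (onSetup.sg x)) = (em (onSetup.sg x))⁻¹ := fun x => by
    refine eq_inv_of_mul_eq_one_left ?_
    have hlt : onSetup.sg x < 8 := (h1 x).1
    have h := el_eq_one (List.all_eq_true.mp fwsInv_ok _ (List.mem_range.mpr hlt))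
    rw [hev] at h
    show em _ * em _ = 1
    have e : ev em [on122760.invl (onSetup.sg x), onSetup.sg x] = em (onSetup.sg x) * em (on122760.invl (onSetup.sg x)) := by
      show 1 * em (onSetup.sg x) * em (on122760.invl (onSetup.sg x)) = _
      rw [one_mul]
    rw [e] at h
    exact mul_eq_one_comm.mp h
  have hR : ∀ r ∈ onSetup.rels, FreeGroup.lift (fun x => em (onSetup.sg x)) r = 1 := fun r hr => by
    rw [Setup.lift_eq_ev (S := onSetup) (D := on122760) _ em (fun _ => rfl) hinv, ← hev]
    exact el_eq_one (fwsRel_ok r (Setup.mem_allRels _ hr))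
  let f : G →* G := PresentedGroup.toGroup hR
  have hfa : ∀ a < on122760.k, f (onSetup.el a) = em a := by
    intro a ha
    obtain ⟨x, rfl | rfl⟩ := h2 a ha
    · rw [(h1 x).2.1]; exact PresentedGroup.toGroup.of hR
    · rw [(h1 x).2.2.1, map_inv, hinv]; exact congrArg _ (PresentedGroup.toGroup.of hR)
  have hfw : ∀ w : List ℕ, (∀ a ∈ w, a < on122760.k) → f (el w) = el (fwW w) := fun w hw => by
    rw [hev, el, OutColour.map_ev]
    exact Setup.ev_congr w fun a ha => hfa a (hw a ha)
  have h := fwsFix_ok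
  simp only [Bool.and_eq_true] at h
  refine ⟨f, ?_, ?_, ?_⟩
  · rw [pow_one, gx, hfw _ wX_lt, eq_of_base h.1]
  · rw [gy, hfw _ wY_lt, eq_of_base h.2.1]
  · rw [gz, hfw _ (by decide +kernel), eq_of_base h.2.2]; rfl

theorem closure_eq_top : Subgroup.closure ({gx, gy, gz} : Set G) = ⊤ := by
  set K := Subgroup.closure ({gx, gy, gz} : Set G) with hK
  have hxyz : ∀ a, el (xyzW a) ∈ K := by
    intro a
    match a with
    | 0 => exact Subgroup.subset_closure (Set.mem_insert _ _)
    | 1 => exact Subgroup.subset_closure (Set.mem_insert_of_mem _ (Set.mem_insert _ _))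
    | a + 2 => exact Subgroup.subset_closure (Set.mem_insert_of_mem _ (Set.mem_insert_of_mem _ rfl))
  have hxyz' : ∀ w : List ℕ, el (w.flatMap xyzW) ∈ K := fun w => by
    rw [el_flatMap]
    exact Setup.ev_mem _ _ _ fun a _ => hxyz a
  have hS : el wS ∈ K := by
    rw [← eq_of_base genS_ok, el_append]
    refine K.mul_mem ?_ (hxyz' _)
    rw [el_winv (w := sylB.flatMap xyzW) (by decide +kernel)]
    exact K.inv_mem (hxyz' _)
  have hxys : ∀ a, el (xysW a) ∈ K := by
    intro a
    match a with
    | 0 => exact hxyz 0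
    | 1 => exact hxyz 1
    | a + 2 => exact hS
  have hsix : ∀ a < 6, el [a + 2] ∈ K := fun a ha => by
    rw [← eq_of_base (List.all_eq_true.mp genLetters_ok a (List.mem_range.mpr ha)), el_flatMap]
    exact Setup.ev_mem _ _ _ fun a _ => hxys a
  have hH : ∀ w, inHW w = true → el w ∈ K := fun w hw => by
    refine Setup.ev_mem _ _ _ fun a ha => ?_
    obtain ⟨h1, h2⟩ := inHW_spec hw a ha
    have := hsix (a - 2) (by omega)
    rwa [el_single, Nat.sub_add_cancel h1] at this
  have h := genG_ok
  simp only [Bool.and_eq_true] at h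
  have hg : el [0] ∈ K := by
    rw [← eq_of_base h.1, el_append]
    exact K.mul_mem (hxyz' _) (hH _ h.2)
  rw [eq_top_iff, ← Setup.closure_el onSetup_gens Cfsg.Agent.S1692.table.letters, Subgroup.closure_le]
  rintro _ ⟨⟨a, ha⟩, rfl⟩
  show onSetup.el a ∈ K
  have ha' : a < 8 := ha
  rcases Nat.lt_or_ge a 2 with h2 | h2
  · interval_cases a
    · rw [← el_single]; exact hg
    · have e := el_winv (w := [0]) (by decide +kernel)
      rw [show winv [0] = [1] by decide +kernel, el_single] at e
      rw [e]; exact K.inv_mem hg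
  · have := hsix (a - 2) (by omega)
    rwa [el_single, Nat.sub_add_cancel h2] at this

theorem cases_image (i : ℕ) (hi : i ∈ [1, 2, 4]) (β : MulAut G) (hx : β gx = gx ^ i) (hy : β gy = gy) :
    (i = 1 ∧ β gz = gz) ∨ (i = 1 ∧ β gz = gz2) := by
  have hc : β gz * gy = gy * β gz := by
    have := congrArg β gz_gy
    rwa [map_mul, map_mul, map_pow, hy, pow_one] at this
  obtain ⟨w, hw, hwz⟩ := centY hc
  obtain ⟨j, hj, rfl⟩ := getD_of_mem ([] : List ℕ) hw
  have hcov := List.all_eq_true.mp (List.all_eq_true.mp cover_ok i hi) j (List.mem_range.mpr hj)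
  simp only [Bool.or_eq_true, Bool.and_eq_true, beq_iff_eq, List.any_eq_true] at hcov
  rcases hcov with ⟨hi1, rfl | rfl⟩ | ⟨e, he, he1, he2⟩
  · exact Or.inl ⟨hi1, by rw [hwz, eq_of_base keepId_ok]; rfl⟩
  · exact Or.inr ⟨hi1, by rw [hwz, eq_of_base keepOuter_ok]; rfl⟩
  · exfalso
    have hk := List.all_eq_true.mp kills_ok e he
    simp only [killOK, Bool.and_eq_true, Nat.blt_eq, List.all_eq_true, Bool.not_eq_true', he1, he2] at hk
    obtain ⟨hr, -, hb, hclt, hlt, hne⟩ := hk
    set r := e.2.2.1 with hrdef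
    have hzlt : ∀ a ∈ wZ, a < on122760.k := by decide +kernel
    set R := Setup.wpow (relList.getD r ([], 0)).1 (relList.getD r ([], 0)).2 with hR
    have hxlt : ∀ m : ℕ, ∀ a ∈ Setup.wpow wX m, a < on122760.k := by
      intro m
      induction m with
      | zero => intro a ha; simp [Setup.wpow] at ha
      | succ m ih =>
        intro a ha
        rw [Setup.wpow, List.mem_append] at ha
        exact ha.elim (wX_lt a) (ih a)
    have hcode : ∀ (k : ℕ), el (codeW i (cands.getD j []) k) = β (el (codeW 1 wZ k)) := by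
      intro k
      have ex : el (Setup.wpow wX i) = β (el (Setup.wpow wX 1)) := by
        rw [el_wpow, el_wpow, pow_one]; exact hx.symm
      match k with
      | 0 => exact ex
      | 1 =>
        show el (winv _) = β (el (winv _))
        rw [el_winv (hxlt i), el_winv (hxlt 1), map_inv, ex]
      | 2 => exact hy.symm
      | 3 => exact hwz.symm
      | k + 4 =>
        show el (winv _) = β (el (winv _))
        rw [el_winv hclt, el_winv hzlt, map_inv]
        exact congrArg _ hwz.symm
    have h1 : el (relW i (cands.getD j []) r) = 1 := by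
      rw [relW, el_flatMap, funext hcode]
      rw [show ev (fun k => β (el (codeW 1 wZ k))) R = β.toMonoidHom (ev (fun k => el (codeW 1 wZ k)) R) from
        (OutColour.map_ev β.toMonoidHom _ R).symm, ← el_flatMap]
      rw [show el (R.flatMap (codeW 1 wZ)) = 1 from el_eq_one (List.all_eq_true.mp relsZ_ok r (List.mem_range.mpr hr)),
        map_one]
    have h2 := pt_el hlt hb
    rw [h1, pt_one] at h2
    rw [← h2, Nat.beq_refl] at hne
    exact Bool.false_ne_true hne.symm

/-- The outer automorphism group of the presented O'Nan group has order 2. -/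
theorem natCard_out_on : Nat.card (Cfsg.Out G) = 2 := by
  obtain ⟨hsimple, hcard⟩ := Cfsg.Agent.S1699.main
  haveI := hsimple
  haveI : Finite G := Nat.finite_of_card_ne_zero (by rw [hcard]; norm_num)
  haveI : Fact (Nat.Prime 19) := ⟨by norm_num⟩
  obtain ⟨f, hfx, hfy, hfz⟩ := exists_hom
  refine OutColour.card_out_two_of_data (p := 19) (r := 6) (s := 12) (e := 1) (i0 := 1) orderOf_gx orderOf_gy
    gy_gx gz_gy (by rw [hcard]; norm_num) (by decide) (by decide) (by norm_num)
    (fun g hg => normX hcard orderOf_gx orderOf_gy gy_gx hg) [1, 2, 4] (by decide) cases_image f hfx hfy hfz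
    closure_eq_top (by decide) (by decide) (fun _ => ?_)
  intro e
  have h := z_ne
  simp only [Bool.and_eq_true, Bool.not_eq_true', List.all_eq_true, Nat.blt_eq] at h
  refine ne_one_of_not_fixed ?_ h.1 ?_
  · intro a ha
    rcases List.mem_append.mp ha with ha | ha
    · exact h.2.1 a ha
    · simp only [winv, List.mem_reverse, List.mem_map] at ha
      obtain ⟨b, hb, rfl⟩ := ha
      exact Cfsg.Agent.S1692.table.perm.inv_lt b (h.2.2 b hb)
  · rw [el_append, el_winv h.2.2, inv_mul_eq_one]
    exact e.symm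

end Cfsg.Agent.OutON
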